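import Cfsg.Agent.H909.S8.McLNum
import Cfsg.Agent.H450.S8.Soc2

/-!
# S4908: SOC2 for `McL` (helper909)
-/

set_option autoImplicit false
set_option maxRecDepth 100000

namespace Cfsg.Agent.H909.S8.McL

open Cfsg Cfsg.Agent.H450.S8

universe u v

variable {X : Type v} [Group X] [Finite X]

theorem num (hX : IsMcL X) : Num (charDegrees X) 898128000 (okDeg 21 [(11, 5)]) where
  pos := by norm_num
  dvd hd := dvd hX hd
  ok {d} hd := by
    have h1 := min_deg hX hd
    have h2 := res hX hd
    rw [okDeg, Bool.and_eq_true, List.all_cons, List.all_nil, Bool.and_true, Bool.or_eq_true, beq_iff_eq,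
      decide_eq_true_eq]
    refine ⟨h1, ?_⟩
    rcases h2 with h | h | h | h | h <;> rw [h] <;> rfl

theorem test : soc2Test (2 * 898128000) (P2 898128000 (okDeg 21 [(11, 5)])) [(2, 8), (3, 6), (5, 3), (7, 1), (11, 1)] = true := by
  decide +kernel

theorem index_le (hX : IsMcL X) : (MulAut.conj : X →* MulAut X).range.index ≤ 2 := by
  have : IsSimpleGroup X := hX.1
  have h : Spor.IsoMcL X := H58.S8.iso_mcl hX
  have h2 : Nat.card (Out X) ≤ 2 := H489.card_out_sporadic (by unfold IsSporadicGroup; tauto)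
  exact h2

/-- **SOC2 for `McL`.** -/
theorem soc2 (hX : IsMcL X) {D : Set ℕ} (hD : H704.S8.Deg 2 X D) : H704.S8.Soc2.{u} D :=
  soc2_two (num hX) (index_le hX) (by
    intro x hx
    simp only [List.mem_cons, List.not_mem_nil, or_false] at hx
    rcases hx with rfl | rfl | rfl | rfl | rfl <;> norm_num) test hD

end Cfsg.Agent.H909.S8.McL
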