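import Cfsg.Agent.H901.LD.RowMcL
import Cfsg.Agent.H58.S8.Iso
import Cfsg.Agent.H121.Cyc.Mathieu
import Cfsg.Agent.H424.DegTools

/-!
# S4908: numerical facts about the degrees of `McL` (helper909)

* `dvd` : the degrees divide the order;
* `min_deg` : the nontrivial degrees are at least `21`;
* `res` : the degrees are `0, 1, 5, 6, 10` modulo `11`.
-/

set_option autoImplicit false

namespace Cfsg.Agent.H909.S8.McL

open Cfsg Cfsg.Agent.Characters.Core Cfsg.Agent.H653.Sieve

universe v

variable {X : Type v} [Group X] [Finite X]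

theorem dvd (hX : IsMcL X) {d : ℕ} (hd : d ∈ charDegrees X) : d ∣ 898128000 := by
  rw [← hX.2]
  exact H424.DegTools.dvd_card hd

theorem min_deg (hX : IsMcL X) {d : ℕ} (hd : d ∈ charDegrees X) : d = 1 ∨ 21 ≤ d := by
  have : IsSimpleGroup X := hX.1
  have hiso := H58.S8.iso_mcl hX
  have h0 := H424.DegTools.pos_of_mem hd
  by_contra hcon
  push Not at hcon
  obtain ⟨χ, hχ, h1⟩ := H424.DegTools.mem_charDegrees.1 hd
  obtain ⟨k, ρ, hρ, rfl⟩ := hχ
  have h2 : (k : ℂ) = d := by
    rw [← h1, Representation.char_one, Module.finrank_fin_fun]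
  have h3 : k = d := by exact_mod_cast h2
  subst h3
  have := (H121.Cyc.mcl hiso).irr k ρ hρ (by omega)
  omega

theorem na (hX : IsMcL X) : ¬ IsMulCommutative X := by
  have : IsSimpleGroup X := hX.1
  intro h
  have h1 : (Nat.card X).Prime := by
    let : CommGroup X := { (inferInstance : Group X) with mul_comm := h.is_comm.comm }
    exact IsSimpleGroup.prime_card
  rw [hX.2] at h1
  revert h1
  norm_num

theorem res (hX : IsMcL X) {d : ℕ} (hd : d ∈ charDegrees X) :
    d % 11 = 0 ∨ d % 11 = 1 ∨ d % 11 = 5 ∨ d % 11 = 6 ∨ d % 11 = 10 := by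
  classical
  have : IsSimpleGroup X := hX.1
  have h := H58.S8.iso_mcl hX
  have hN := hX.2
  have hf11 : Fact (Nat.Prime 11) := ⟨by norm_num⟩
  obtain ⟨x, hx⟩ := exists_prime_orderOf_dvd_card' (G := X) 11 (by rw [hN]; norm_num)
  have hc : Nat.card (Subgroup.centralizer ({x} : Set X)) = 11 * 1 := by
    have h1 := (H904.McLCent.eleven h (Subgroup.zpowers x) (by rw [Nat.card_zpowers, hx])).1
    rw [SmallSimple.SelfCentPrime.centralizer_zpowers] at h1
    rw [h1]
  have : Fintype (IrrCharacter X) := by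
    have : Finite (IrrCharacter X) := finite_irr
    exact Fintype.ofFinite _
  obtain ⟨P, W, -, -, -, hW⟩ := exists_col (na hX) hN hx hc 5 2 [(0, 0), (1, 2), (5, -1), (6, 1), (10, -2)] 2 true
    (by decide +kernel)
  obtain ⟨χ, rfl⟩ := hd
  have h1 := hW.mem χ
  simp only [List.mem_cons, Prod.mk.injEq, List.not_mem_nil, or_false] at h1
  tauto

end Cfsg.Agent.H909.S8.McL
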